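import Groth.Agent.Lib.EtTrace21.PointPush
import Groth.Agent.Lib.EtShriek.Colim
import Mathlib.FieldTheory.Galois.Basic
import Mathlib.FieldTheory.IsSepClosed
import Mathlib.FieldTheory.SeparableClosure
import Mathlib.FieldTheory.Normal.Closure

/-!
# Degree one cohomology of a field from cocycles of finite Galois groups
-/

set_option autoImplicit false
set_option backward.isDefEq.respectTransparency false
set_option backward.isDefEq.respectTransparency.types false
set_option linter.style.haveILetI false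

universe u

open CategoryTheory CategoryTheory.Limits CategoryTheory.Abelian AlgebraicGeometry Opposite
open GrothLib.EtSite GrothLib.EtColim GrothLib.EtLimit

noncomputable section

namespace GrothLib.EtTrace21

variable (k L : Type u) [Field k] [Field L] [Algebra k L] [FiniteDimensional k L] [Algebra.IsSeparable k L]

/-- The spectrum of a finite separable extension as an etale scheme over the base field. -/
def VL : (Spec (CommRingCat.of k)).Etale :=
  MorphismProperty.Over.mk ⊤ (specMap k L) (etale_specMap k L)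

/-- The structure map to the terminal object. -/
def toTop : VL k L ⟶ EtCoh.top (Spec (CommRingCat.of k)) :=
  (EtCore.topIsTerminal (Spec (CommRingCat.of k))).from _

variable {k L}

/-- The action of an automorphism of the extension. -/
def galMap (σ : L ≃ₐ[k] L) : VL k L ⟶ VL k L :=
  MorphismProperty.Over.homMk (Spec.map (CommRingCat.ofHom (σ : L →+* L))) (by
    change Spec.map _ ≫ Spec.map _ = Spec.map _
    rw [← Spec.map_comp, ← CommRingCat.ofHom_comp]
    congr 2
    exact RingHom.ext σ.commutes)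

theorem galMap_mul (σ τ : L ≃ₐ[k] L) : galMap (σ * τ) = galMap σ ≫ galMap τ := by
  refine MorphismProperty.Over.Hom.ext ?_
  change Spec.map _ = Spec.map _ ≫ Spec.map _
  rw [← Spec.map_comp]
  rfl

variable {F G : EtCoh.Ab (Spec (CommRingCat.of k))}

/-- The action on sections. -/
def act (F : EtCoh.Ab (Spec (CommRingCat.of k))) (σ : L ≃ₐ[k] L) :
    EtCoh.sect F (VL k L) →+ EtCoh.sect F (VL k L) :=
  (F.obj.map (galMap σ).op).hom

theorem act_mul (σ τ : L ≃ₐ[k] L) (a : EtCoh.sect F (VL k L)) : act F (σ * τ) a = act F σ (act F τ a) := by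
  change F.obj.map _ a = F.obj.map _ (F.obj.map _ a)
  rw [galMap_mul, op_comp, Functor.map_comp_apply]

theorem act_app (φ : F ⟶ G) (σ : L ≃ₐ[k] L) (a : EtCoh.sect F (VL k L)) :
    φ.hom.app (op (VL k L)) (act F σ a) = act G σ (φ.hom.app (op (VL k L)) a) :=
  NatTrans.naturality_apply φ.hom (galMap σ).op a

/-- Two points of a Galois extension over the same point differ by an automorphism. -/
theorem exists_galMap_fib [IsGalois k L] {Ω : Type u} [Field Ω] [IsAlgClosed Ω]
    (ξ : Spec (CommRingCat.of Ω) ⟶ Spec (CommRingCat.of k))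
    (t₁ t₂ : (Scheme.pointSmallEtale ξ).fiber.obj (VL k L)) :
    ∃ σ : L ≃ₐ[k] L, (Scheme.pointSmallEtale ξ).fiber.map (galMap σ) t₁ = t₂ := by
  let φ₁ : L →+* Ω := (Spec.preimage t₁.left).hom
  let φ₂ : L →+* Ω := (Spec.preimage t₂.left).hom
  letI : Algebra L Ω := φ₁.toAlgebra
  letI : Algebra k Ω := (φ₁.comp (algebraMap k L)).toAlgebra
  haveI : IsScalarTower k L Ω := IsScalarTower.of_algebraMap_eq fun _ => rfl
  have h : ∀ t : (Scheme.pointSmallEtale ξ).fiber.obj (VL k L),
      Spec.map (CommRingCat.ofHom (algebraMap k L) ≫ Spec.preimage t.left) = ξ := fun t => by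
    rw [Spec.map_comp, Spec.map_preimage]
    exact Over.w t
  have e := Spec.map_injective ((h t₂).trans (h t₁).symm)
  let ψ : L →ₐ[k] Ω := ⟨φ₂, fun r => congr($e r)⟩
  refine ⟨AlgEquiv.ofBijective (ψ.restrictNormal L) (Algebra.IsAlgebraic.algHom_bijective _), ?_⟩
  refine Over.OverMorphism.ext ?_
  change t₁.left ≫ Spec.map _ = t₂.left
  rw [← Spec.map_preimage t₂.left, ← Spec.map_preimage t₁.left, ← Spec.map_comp]
  congr 1
  refine CommRingCat.hom_ext (RingHom.ext fun x => ?_)
  exact ψ.restrictNormal_commutes L x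

/-- A section over the top vanishes if it vanishes on a finite extension. -/
theorem eq_of_map_toTop (a b : EtCoh.sect F (EtCoh.top (Spec (CommRingCat.of k))))
    (h : F.obj.map (toTop k L).op a = F.obj.map (toTop k L).op b) : a = b := by
  refine sub_eq_zero.1 (section_eq_zero_of_germsAC F _ _ fun Ω _ _ ξ t => ?_)
  letI : Algebra k Ω := (Spec.preimage ξ).hom.toAlgebra
  let ψ : L →ₐ[k] Ω := IsAlgClosed.lift
  let t' : (Scheme.pointSmallEtale ξ).fiber.obj (VL k L) :=
    Over.homMk (Spec.map (CommRingCat.ofHom ψ.toRingHom)) (by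
      change Spec.map _ ≫ Spec.map _ = ξ
      rw [← Spec.map_comp, ← Spec.map_preimage ξ]
      exact congrArg Spec.map (CommRingCat.hom_ext ψ.comp_algebraMap))
  have ht : (Scheme.pointSmallEtale ξ).fiber.map (toTop k L) t' = t := by
    refine Over.OverMorphism.ext ?_
    have e : ∀ p : (Scheme.pointSmallEtale ξ).fiber.obj (EtCoh.top (Spec (CommRingCat.of k))),
        p.left = ξ := fun p => (Category.comp_id p.left).symm.trans (Over.w p)
    exact (e _).trans (e t).symm
  rw [map_sub, sub_eq_zero, ← ht, ← germ_map, ← germ_map, h]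

/-- Invariant sections descend. -/
theorem exists_descend [IsGalois k L] (z : EtCoh.sect F (VL k L)) (hz : ∀ σ, act F σ z = z) :
    ∃ w : EtCoh.sect F (EtCoh.top (Spec (CommRingCat.of k))), F.obj.map (toTop k L).op w = z := by
  refine (GrothLib.EtShriek.exists_glue F (EtCoh.top (Spec (CommRingCat.of k)))
    (fun _ : PUnit.{1} => VL k L) (fun _ => toTop k L) ?_ (fun _ => z) ?_).imp fun w hw => hw PUnit.unit
  · intro x
    refine ⟨PUnit.unit, (show ↥(VL k L).left from (default : PrimeSpectrum L)), ?_⟩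
    exact Subsingleton.elim (α := PrimeSpectrum k) _ _
  · intro i j Z p q _
    refine sub_eq_zero.1 (section_eq_zero_of_germsAC F _ _ fun Ω _ _ ξ t => ?_)
    obtain ⟨σ, hσ⟩ := exists_galMap_fib ξ ((Scheme.pointSmallEtale ξ).fiber.map p t)
      ((Scheme.pointSmallEtale ξ).fiber.map q t)
    rw [map_sub, sub_eq_zero, germ_map, germ_map, ← hσ, ← germ_map ξ F (galMap σ)]
    exact congrArg _ (hz σ).symm

omit [Field L] in
theorem exists_lift_sect {X : Scheme.{u}} {S : ShortComplex (EtCoh.Ab X)} (hS : S.ShortExact) {V : X.Etale}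
    (s : EtCoh.sect S.X₂ V) (h : S.g.hom.app (op V) s = 0) : ∃ a, S.f.hom.app (op V) a = s := by
  haveI := hS.mono_f
  have h0 : ofSect s ≫ S.g = 0 := ZV_ext (by
    refine (congrArg (S.g.hom.app (op V)) (ofSect_gen s)).trans ?_
    exact h)
  refine ⟨(hS.exact.lift (ofSect s) h0).hom.app (op V) (gen V), ?_⟩
  exact (congrArg (fun φ : ZV V ⟶ S.X₂ => φ.hom.app (op V) (gen V)) (hS.exact.lift_f (ofSect s) h0)).trans
    (ofSect_gen s)

omit [Field L] in
theorem injective_app {X : Scheme.{u}} {A B : EtCoh.Ab X} (f : A ⟶ B) [Mono f] (V : X.Etale) :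
    Function.Injective (f.hom.app (op V)) := by
  intro a b h
  have e : ofSect a ≫ f = ofSect b ≫ f := ZV_ext (by
    change f.hom.app (op V) ((ofSect a).hom.app (op V) (gen V)) = f.hom.app (op V) ((ofSect b).hom.app (op V) (gen V))
    rw [ofSect_gen, ofSect_gen, h])
  rw [cancel_mono] at e
  exact (hZV V A).symm.injective e

/-- Degree one cohomology of a field vanishes if all cocycles of finite Galois extensions split. -/
theorem subsingleton_H_one (k : Type u) [Field k] (F : EtCoh.Ab (Spec (CommRingCat.of k)))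
    (h : ∀ (L : Type u) [Field L] [Algebra k L] [FiniteDimensional k L] [IsGalois k L]
      (c : (L ≃ₐ[k] L) → EtCoh.sect F (VL k L)), (∀ σ τ, c (σ * τ) = act F σ (c τ) + c σ) →
      ∃ b, ∀ σ, c σ = act F σ b - b) :
    Subsingleton (EtCoh.H (Spec (CommRingCat.of k)) F 1) := by
  suffices hx : ∀ x : EtCoh.H (Spec (CommRingCat.of k)) F 1, x = 0 from ⟨fun a b => (hx a).trans (hx b).symm⟩
  intro x
  have hS := injS_shortExact F
  haveI : Injective (injS F).X₂ := inferInstanceAs (Injective (Injective.under F))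
  obtain ⟨c₀, hc₀⟩ := Ext.covariant_sequence_exact₁ _ hS x (Ext.eq_zero_of_injective _) rfl
  subst hc₀
  obtain ⟨φ, rfl⟩ := (Ext.mk₀_bijective _ _).2 c₀
  let top := EtCoh.top (Spec (CommRingCat.of k))
  let s : EtCoh.sect (injS F).X₃ top := evOne _ φ
  haveI : Sheaf.IsLocallySurjective (injS F).g := (Sheaf.isLocallySurjective_iff_epi' _ _).2 hS.epi_g
  obtain ⟨W, g, w, ⟨z₀, hz₀⟩, -⟩ := (mem_topology_iff _).1
    (Presheaf.imageSieve_mem (Spec (CommRingCat.of k)).smallEtaleTopology (injS F).g.hom s)
    (show ↥top.left from (default : PrimeSpectrum k))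
  obtain ⟨ι, K, _, _, _, _, e, he⟩ := (GrothLib.EtBasicB.etale_of_field_iff k W.left W.hom).1 W.prop
  obtain ⟨i, -⟩ := (sigmaOpenCover fun i => Spec (CommRingCat.of (K i))).exists_eq (e.inv w)
  let j₀ : K i →ₐ[k] SeparableClosure k := IsSepClosed.lift
  let L : Type u := IntermediateField.normalClosure k (K i) (SeparableClosure k)
  let j : K i →ₐ[k] L := j₀.codRestrict _ fun x => j₀.fieldRange_le_normalClosure ⟨x, rfl⟩
  let mW : VL k L ⟶ W := MorphismProperty.Over.homMk
    (Spec.map (CommRingCat.ofHom j.toRingHom) ≫ Sigma.ι (fun i => Spec (CommRingCat.of (K i))) i ≫ e.hom) (by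
      change (_ ≫ _ ≫ _) ≫ W.hom = Spec.map _
      rw [Category.assoc, Category.assoc, he i, ← Spec.map_comp, ← CommRingCat.ofHom_comp]
      congr 2
      exact j.comp_algebraMap)
  let z : EtCoh.sect (injS F).X₂ (VL k L) := (injS F).X₂.obj.map mW.op z₀
  have hz : (injS F).g.hom.app (op (VL k L)) z = (injS F).X₃.obj.map (toTop k L).op s := by
    refine (NatTrans.naturality_apply (injS F).g.hom mW.op z₀).trans ?_
    refine (congrArg ((injS F).X₃.obj.map mW.op) hz₀).trans ?_
    rw [← Functor.map_comp_apply, ← op_comp]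
    exact congrArg (fun q => (injS F).X₃.obj.map (Quiver.Hom.op q) s)
      ((EtCore.topIsTerminal (Spec (CommRingCat.of k))).hom_ext _ _)
  have hker : ∀ σ : L ≃ₐ[k] L, ∃ a, (injS F).f.hom.app (op (VL k L)) a = act _ σ z - z := fun σ => by
    refine exists_lift_sect hS _ ?_
    rw [map_sub, act_app, hz, sub_eq_zero]
    change (injS F).X₃.obj.map _ ((injS F).X₃.obj.map _ s) = _
    rw [← Functor.map_comp_apply, ← op_comp]
    exact congrArg (fun q => (injS F).X₃.obj.map (Quiver.Hom.op q) s)
      ((EtCore.topIsTerminal (Spec (CommRingCat.of k))).hom_ext _ _)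
  choose c hc using hker
  haveI := hS.mono_f
  obtain ⟨b, hb⟩ := h L c fun σ τ => injective_app (injS F).f _ (by
    rw [map_add, act_app, hc, hc, hc, act_mul, map_sub]
    abel)
  obtain ⟨w', hw'⟩ := exists_descend (z - (injS F).f.hom.app (op (VL k L)) b) fun σ => by
    rw [map_sub, ← act_app, show act F σ b = c σ + b by rw [hb σ]; abel, map_add, hc]
    abel
  obtain ⟨ψ, hψ⟩ := (bijective_evOne (injS F).X₂).2 w'
  have hψφ : ψ ≫ (injS F).g = φ := by
    refine (bijective_evOne _).1 ?_
    rw [evOne_comp, hψ]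
    refine eq_of_map_toTop (L := L) _ _ ?_
    refine (NatTrans.naturality_apply (injS F).g.hom (toTop k L).op w').symm.trans ?_
    rw [hw', map_sub, hz]
    rw [show (injS F).g.hom.app (op (VL k L)) ((injS F).f.hom.app (op (VL k L)) b) = 0 from
      congr($(congrArg (fun a : (injS F).X₁ ⟶ (injS F).X₃ => a.hom.app (op (VL k L))) (injS F).zero) b), sub_zero]
  rw [← hψφ, ← Ext.mk₀_comp_mk₀, Ext.comp_assoc_of_second_deg_zero, hS.comp_extClass, Ext.comp_zero]

end GrothLib.EtTrace21
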