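import Groth.Agent.Lib.EtTrace21.H90
import Groth.Agent.Lib.ExtAdj.Basic
import Mathlib.CategoryTheory.Sites.LocallySurjective

/-!
# Direct images from a field in degrees one and two
-/

set_option autoImplicit false
set_option backward.isDefEq.respectTransparency false
set_option backward.isDefEq.respectTransparency.types false
set_option linter.style.haveILetI false

universe u w w' v v' u₁ u₂

open CategoryTheory CategoryTheory.Limits CategoryTheory.Abelian AlgebraicGeometry Opposite
open GrothLib.EtSite GrothLib.EtColim GrothLib.EtLimit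

noncomputable section

namespace GrothLib.ExtAdj

variable {A : Type u₁} [Category.{v} A] [Abelian A] {B : Type u₂} [Category.{v'} B] [Abelian B]
  [HasExt.{w} A] [HasExt.{w'} B] {L : A ⥤ B} {R : B ⥤ A} (adj : L ⊣ R)
  [L.Additive] [R.Additive] [PreservesFiniteLimits L] [PreservesFiniteColimits L] [EnoughInjectives B]

theorem injective_adjMap_one (X : A) (Y : B) : Function.Injective (adjMap adj X Y 1) := by
  haveI : PreservesFiniteLimits R := (adj.rightAdjoint_preservesLimits : PreservesLimitsOfSize.{0, 0} R).preservesFiniteLimits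
  haveI : R.IsRightAdjoint := adj.isRightAdjoint
  haveI : R.PreservesInjectiveObjects :=
    Functor.preservesInjectiveObjects_of_adjunction_of_preservesMonomorphisms adj
  let S : ShortComplex B := ShortComplex.mk (Injective.ι Y) (cokernel.π (Injective.ι Y)) (cokernel.condition _)
  have hS : S.ShortExact := { exact := ShortComplex.exact_of_g_is_cokernel _ (cokernelIsCokernel _) }
  haveI : Injective S.X₂ := inferInstanceAs (Injective (Injective.under Y))
  haveI : Injective (R.obj S.X₂) := R.injective_obj S.X₂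
  haveI : Mono (R.map S.f) := R.map_mono S.f
  let a := R.map S.f
  let T := ShortComplex.mk a (cokernel.π a) (cokernel.condition a)
  have hT : T.ShortExact := { exact := T.exact_of_g_is_cokernel (cokernelIsCokernel _) }
  haveI : Injective T.X₂ := inferInstanceAs (Injective (R.obj S.X₂))
  have hex := hS.exact.map_of_mono_of_preservesKernel R inferInstance inferInstance
  let b : T.X₃ ⟶ R.obj S.X₃ := cokernel.desc a (R.map S.g) (by rw [← R.map_comp, S.zero, R.map_zero])
  haveI : Mono b := hex.mono_cokernelDesc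
  have hb : T.g ≫ b = R.map S.g := cokernel.π_desc _ _ _
  refine (injective_iff_map_eq_zero _).2 fun x hx => ?_
  obtain ⟨c, rfl⟩ := Ext.covariant_sequence_exact₁ X hT x (Ext.eq_zero_of_injective _) rfl
  obtain ⟨c, rfl⟩ := (Ext.mk₀_bijective _ _).2 c
  let φ : T.map L ⟶ S :=
    { τ₁ := adj.counit.app S.X₁
      τ₂ := adj.counit.app S.X₂
      τ₃ := (adj.homEquiv _ _).symm b
      comm₁₂ := (adj.counit_naturality S.f).symm
      comm₂₃ := by
        change adj.counit.app S.X₂ ≫ S.g = L.map T.g ≫ (adj.homEquiv _ _).symm b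
        rw [← adj.homEquiv_naturality_left_symm, hb, Adjunction.homEquiv_counit]
        exact (adj.counit_naturality S.g).symm }
  have key : (hT.map_of_exact L).extClass.comp (Ext.mk₀ (adj.counit.app S.X₁)) (add_zero 1) =
      (Ext.mk₀ ((adj.homEquiv _ _).symm b)).comp hS.extClass (zero_add 1) :=
    ShortComplex.ShortExact.extClass_naturality (hT.map_of_exact L) hS φ
  have hval : adjMap adj X Y 1 ((Ext.mk₀ c).comp hT.extClass rfl) =
      (Ext.mk₀ ((adj.homEquiv _ _).symm (c ≫ b))).comp hS.extClass rfl := by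
    rw [adjMap_apply, Ext.mapExactFunctor_comp, Ext.mapExactFunctor_mk₀, Ext.mapExactFunctor_extClass L hT,
      Ext.comp_assoc_of_third_deg_zero]
    refine (congrArg (fun m => (Ext.mk₀ (L.map c)).comp m (zero_add 1)) key).trans ?_
    rw [← Ext.comp_assoc_of_second_deg_zero, Ext.mk₀_comp_mk₀, adj.homEquiv_naturality_left_symm]
  rw [hval] at hx
  obtain ⟨z, hz⟩ := Ext.covariant_sequence_exact₃ _ hS (Ext.mk₀ ((adj.homEquiv _ _).symm (c ≫ b))) rfl hx
  obtain ⟨z, rfl⟩ := (Ext.mk₀_bijective _ _).2 z
  rw [Ext.mk₀_comp_mk₀] at hz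
  have hz' : z ≫ S.g = (adj.homEquiv _ _).symm (c ≫ b) := (Ext.mk₀_bijective _ _).1 hz
  have hc : adj.homEquiv _ _ z ≫ T.g = c := by
    rw [← cancel_mono b, Category.assoc, hb, ← adj.homEquiv_naturality_right, hz', Equiv.apply_symm_apply]
  rw [← hc, ← Ext.mk₀_comp_mk₀, Ext.comp_assoc_of_second_deg_zero, hT.comp_extClass, Ext.comp_zero]

theorem injective_adjMap_two (X : A) (Y : B) (h : IsZero ((R.rightDerived 1).obj Y)) :
    Function.Injective (adjMap adj X Y 2) := by
  haveI : PreservesFiniteLimits R := (adj.rightAdjoint_preservesLimits : PreservesLimitsOfSize.{0, 0} R).preservesFiniteLimits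
  haveI : R.IsRightAdjoint := adj.isRightAdjoint
  haveI : R.PreservesInjectiveObjects :=
    Functor.preservesInjectiveObjects_of_adjunction_of_preservesMonomorphisms adj
  let S : ShortComplex B := ShortComplex.mk (Injective.ι Y) (cokernel.π (Injective.ι Y)) (cokernel.condition _)
  have hS : S.ShortExact := { exact := ShortComplex.exact_of_g_is_cokernel _ (cokernelIsCokernel _) }
  haveI : Injective S.X₂ := inferInstanceAs (Injective (Injective.under Y))
  haveI : Injective (R.obj S.X₂) := R.injective_obj S.X₂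
  haveI : Injective (S.map R).X₂ := R.injective_obj S.X₂
  have hRS : (S.map R).ShortExact := GrothLib.HomGamma.shortExact_map_of_isZero R hS h
  refine (injective_iff_map_eq_zero _).2 fun x hx => ?_
  obtain ⟨x₃, rfl⟩ := Ext.covariant_sequence_exact₁ X hRS x (Ext.eq_zero_of_injective _) rfl
  replace hx := (adjMap_extClass adj X hS hRS 1 x₃).symm.trans hx
  obtain ⟨z, hz⟩ := Ext.covariant_sequence_exact₃ _ hS (adjMap adj X S.X₃ 1 x₃) rfl hx
  rw [Ext.eq_zero_of_injective z, Ext.zero_comp] at hz
  rw [(injective_iff_map_eq_zero _).1 (injective_adjMap_one adj X S.X₃) x₃ hz.symm, Ext.zero_comp]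

end GrothLib.ExtAdj

namespace GrothLib.EtTrace21

variable {k : Type u} [Field k]

theorem exists_lift_VL (S : ShortComplex (EtCoh.Ab (Spec (CommRingCat.of k)))) (hS : S.ShortExact)
    (K : Type u) [Field K] [Algebra k K] [FiniteDimensional k K] [Algebra.IsSeparable k K]
    [Etale (specMap k K)] [EtShriek.JCont (specMap k K)]
    (h : Subsingleton (EtCoh.H (Spec (CommRingCat.of K)) ((EtShriek.restrAlong (specMap k K)).obj S.X₁) 1))
    (s : EtCoh.sect S.X₃ (VL k K)) :
    ∃ z : EtCoh.sect S.X₂ (VL k K), S.g.hom.app (op (VL k K)) z = s := by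
  let j := specMap k K
  haveI := GrothLib.EtDer.pullFL j
  haveI : PreservesFiniteLimits (EtShriek.restrAlong j) :=
    preservesFiniteLimits_of_natIso (GrothLib.ExtZero.restrIsoPull j).symm
  haveI : PreservesFiniteColimits (EtShriek.restrAlong j) :=
    preservesFiniteColimits_of_natIso (GrothLib.ExtZero.restrIsoPull j).symm
  haveI : (EtShriek.restrAlong j).Additive := Functor.additive_of_preserves_binary_products _
  have hT : (S.map (EtShriek.restrAlong j)).ShortExact := hS.map_of_exact _
  let tp := EtCoh.top (Spec (CommRingCat.of K))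
  let g : (EtShriek.compEtale j).obj tp ⟶ VL k K := MorphismProperty.Over.homMk (𝟙 _) rfl
  let g' : VL k K ⟶ (EtShriek.compEtale j).obj tp := MorphismProperty.Over.homMk (𝟙 _) rfl
  have hg : g' ≫ g = 𝟙 (VL k K) := MorphismProperty.Over.Hom.ext (Category.id_comp _)
  let s₁ : EtCoh.sect ((EtShriek.restrAlong j).obj S.X₃) tp := S.X₃.obj.map g.op s
  obtain ⟨φ, hφ⟩ := (bijective_evOne ((EtShriek.restrAlong j).obj S.X₃)).2 s₁
  obtain ⟨y, hy⟩ := Ext.covariant_sequence_exact₃ _ hT (Ext.mk₀ φ) rfl
    (Subsingleton.elim (α := EtCoh.H _ ((EtShriek.restrAlong j).obj S.X₁) 1) _ 0)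
  obtain ⟨ψ, rfl⟩ := (Ext.mk₀_bijective _ _).2 y
  rw [Ext.mk₀_comp_mk₀] at hy
  have hψ : ψ ≫ (EtShriek.restrAlong j).map S.g = φ := (Ext.mk₀_bijective _ _).1 hy
  refine ⟨S.X₂.obj.map g'.op (evOne _ ψ : EtCoh.sect ((EtShriek.restrAlong j).obj S.X₂) tp), ?_⟩
  refine (NatTrans.naturality_apply S.g.hom g'.op _).trans ?_
  have e1 : ((EtShriek.restrAlong j).map S.g).hom.app (op tp) (evOne _ ψ) = s₁ := by
    rw [← hφ]
    exact congrArg (evOne ((EtShriek.restrAlong j).obj S.X₃)) hψ
  refine (congrArg (S.X₃.obj.map g'.op) e1).trans ?_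
  change S.X₃.obj.map g'.op (S.X₃.obj.map g.op s) = s
  rw [← ConcreteCategory.comp_apply, ← Functor.map_comp, ← op_comp, hg, op_id, CategoryTheory.Functor.map_id]
  rfl

/-- Surjectivity on every etale scheme over a field, from that on spectra of finite separable extensions. -/
theorem exists_lift_of_fields {A B : EtCoh.Ab (Spec (CommRingCat.of k))} (φ : A ⟶ B)
    (h : ∀ (K : Type u) [Field K] [Algebra k K] [FiniteDimensional k K] [Algebra.IsSeparable k K]
      (s : EtCoh.sect B (VL k K)), ∃ z, φ.hom.app (op (VL k K)) z = s)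
    (W : (Spec (CommRingCat.of k)).Etale) (s : EtCoh.sect B W) : ∃ z, φ.hom.app (op W) z = s := by
  obtain ⟨ι, K, _, _, _, _, e, he⟩ := (GrothLib.EtBasicB.etale_of_field_iff k W.left W.hom).1 W.prop
  let m : ∀ i, VL k (K i) ⟶ W := fun i => MorphismProperty.Over.homMk
    (Sigma.ι (fun i => Spec (CommRingCat.of (K i))) i ≫ e.hom) ((Category.assoc _ _ _).trans (he i))
  have hcov : ∀ x : W.left, ∃ i, x ∈ Set.range (m i).left.base := fun x => by
    obtain ⟨i, y, hy⟩ := (sigmaOpenCover fun i => Spec (CommRingCat.of (K i))).exists_eq (e.inv x)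
    refine ⟨i, y, ?_⟩
    change e.hom ((Sigma.ι (fun i => Spec (CommRingCat.of (K i))) i) y) = x
    refine (congrArg e.hom hy).trans ?_
    rw [← Scheme.Hom.comp_apply, e.inv_hom_id]
    rfl
  choose z hz using fun i => h (K i) (B.obj.map (m i).op s)
  obtain ⟨z', hz'⟩ : ∃ z', ∀ i, A.obj.map (m i).op z' = z i := by
    refine GrothLib.EtShriek.exists_glue A W (fun i => VL k (K i)) m hcov z fun i i' Z p q hpq => ?_
    rcases eq_or_ne i i' with rfl | hne
    · haveI : IsOpenImmersion (m i).left := inferInstanceAs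
        (IsOpenImmersion (Sigma.ι (fun i => Spec (CommRingCat.of (K i))) i ≫ e.hom))
      have : p = q := MorphismProperty.Over.Hom.ext
        ((cancel_mono (m i).left).1 (congrArg (fun r => r.left) hpq))
      rw [this]
    · haveI : IsEmpty ↥Z.left := ⟨fun v => by
        have e1 : (m i).left (p.left v) = (m i').left (q.left v) :=
          congrArg (fun r : Z ⟶ W => r.left v) hpq
        refine ((disjoint_opensRange_sigmaι (fun i => Spec (CommRingCat.of (K i))) i i' hne).le_bot
          (show (Sigma.ι (fun i => Spec (CommRingCat.of (K i))) i) (p.left v) ∈ _ ⊓ _ from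
            ⟨⟨_, rfl⟩, ⟨q.left v, ?_⟩⟩))
        exact e.hom.isOpenEmbedding.injective e1.symm⟩
      refine sub_eq_zero.1 (section_eq_zero_of_germsAC A Z _ fun Ω _ _ ξ t => ?_)
      exact IsEmpty.elim ‹IsEmpty ↥Z.left› (t.left (default : PrimeSpectrum Ω))
  refine ⟨z', sub_eq_zero.1 (section_eq_zero_of_germsAC B W _ fun Ω _ _ ξ t => ?_)⟩
  obtain ⟨i, y, hy⟩ := hcov (t.left (default : PrimeSpectrum Ω))
  haveI : IsOpenImmersion (m i).left := inferInstanceAs
    (IsOpenImmersion (Sigma.ι (fun i => Spec (CommRingCat.of (K i))) i ≫ e.hom))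
  have hr : Set.range t.left.base ⊆ Set.range (m i).left.base := by
    rintro _ ⟨p, rfl⟩
    rw [Subsingleton.elim (α := PrimeSpectrum Ω) p default]
    exact ⟨y, hy⟩
  let l := IsOpenImmersion.lift (m i).left t.left hr
  let t' : (Scheme.pointSmallEtale ξ).fiber.obj (VL k (K i)) := Over.homMk l (by
    change l ≫ (VL k (K i)).hom = ξ
    rw [← MorphismProperty.Over.w (m i), ← Category.assoc, IsOpenImmersion.lift_fac]
    exact Over.w t)
  have ht : (Scheme.pointSmallEtale ξ).fiber.map (m i) t' = t :=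
    Over.OverMorphism.ext (IsOpenImmersion.lift_fac _ _ hr)
  rw [map_sub, sub_eq_zero, ← ht, ← germ_map, ← germ_map]
  refine congrArg _ ((NatTrans.naturality_apply φ.hom (m i).op z').symm.trans ?_)
  rw [hz' i, hz i]

/-- The restriction of the multiplicative group sheaf. -/
theorem restrAlong_Gm {U X : Scheme.{u}} (j : U ⟶ X) [Etale j] [EtShriek.JCont j] :
    Nonempty ((EtShriek.restrAlong j).obj (EtCoh.Gm X) ≅ EtCoh.Gm U) :=
  ⟨ObjectProperty.isoMk _ (Iso.refl _)⟩

theorem isZero_Rpush_one_Gm {X : Scheme.{u}} (f : Spec (CommRingCat.of k) ⟶ X) :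
    IsZero ((EtCoh.Rpush f 1).obj (EtCoh.Gm (Spec (CommRingCat.of k)))) := by
  let S := injS (EtCoh.Gm (Spec (CommRingCat.of k)))
  have hS := injS_shortExact (EtCoh.Gm (Spec (CommRingCat.of k)))
  haveI : Injective S.X₂ := inferInstanceAs (Injective (Injective.under _))
  haveI : PreservesFiniteLimits (EtCoh.push f) :=
    ((EtCoh.pullPushAdj f).rightAdjoint_preservesLimits : PreservesLimitsOfSize.{0, 0} _).preservesFiniteLimits
  haveI : Sheaf.IsLocallySurjective ((EtCoh.push f).map S.g) := by
    constructor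
    intro U s
    obtain ⟨z, hz⟩ := exists_lift_of_fields S.g (fun K _ _ _ _ t => by
      haveI := etale_specMap k K
      haveI := GrothLib.Constructible.jcont (specMap k K)
      obtain ⟨e⟩ := restrAlong_Gm (specMap k K)
      haveI := subsingleton_H_one_Gm K
      refine exists_lift_VL S hS K ⟨fun a b => ?_⟩ t
      apply ((EtCoh.HF _ 1).mapIso e).addCommGroupIsoToAddEquiv.injective
      exact Subsingleton.elim (α := EtCoh.H _ (EtCoh.Gm _) 1) _ _) ((EtCoh.bc f).obj U) s
    refine GrothendieckTopology.superset_covering _ ?_ (GrothendieckTopology.top_mem _ _)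
    intro V g _
    exact ⟨((EtCoh.push f).obj S.X₂).obj.map g.op z,
      (NatTrans.naturality_apply ((EtCoh.push f).map S.g).hom g.op z).trans (congrArg _ hz)⟩
  haveI : Epi ((EtCoh.push f).map S.g) := (Sheaf.isLocallySurjective_iff_epi' _ _).1 inferInstance
  exact IsZero.of_iso (isZero_cokernel_of_epi _) (GrothLib.HomGamma.shiftIsoOne hS (EtCoh.push f))

theorem injective_HofPush_two {U X : Scheme.{u}} (f : U ⟶ X) [PreservesFiniteLimits (EtCoh.pull f)]
    (F : EtCoh.Ab U) (h : IsZero ((EtCoh.Rpush f 1).obj F)) : Function.Injective (EtLim.HofPush f F 2) := by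
  let e := Ext.mk₀ (EtCore.pullConst f ℤ).inv
  let e' := Ext.mk₀ (EtCore.pullConst f ℤ).hom
  let φ := GrothLib.ExtAdj.adjMap (EtCoh.pullPushAdj f) (EtCoh.const X ℤ) F 2
  have hφ : Function.Injective φ := GrothLib.ExtAdj.injective_adjMap_two _ _ F h
  have hg : Function.Injective (fun x : Ext ((EtCoh.pull f).obj (EtCoh.const X ℤ)) F 2 =>
      e.comp x (zero_add 2)) := fun a b hab => by
    have := congrArg (fun z => e'.comp z (zero_add 2)) hab
    simpa [e, e'] using this
  convert hg.comp hφ using 1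
  funext x
  exact Ext.comp_assoc_of_third_deg_zero e ((EtCoh.pull f).mapExtAddHom _ _ 2 x)
    (Ext.mk₀ ((EtCoh.pullPushAdj f).counit.app F)) (zero_add 2)

end GrothLib.EtTrace21
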