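import Groth.Agent.Lib.EtDer.HpullComp

/-!
# Classes killed by an integer, and sheaves killed by it
-/

set_option autoImplicit false
set_option backward.isDefEq.respectTransparency false
set_option backward.isDefEq.respectTransparency.types false
set_option linter.style.haveILetI false

universe u

open CategoryTheory CategoryTheory.Limits CategoryTheory.Abelian AlgebraicGeometry Opposite

noncomputable section

namespace GrothLib.EtTrace21

variable {X : Scheme.{u}}

theorem comp_nsmul_id {G : EtCoh.Ab X} {r : ℕ} (y : EtCoh.H X G r) (N : ℕ) :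
    Ext.comp y (Ext.mk₀ (N • 𝟙 G)) (add_zero r) = N • y := by
  have e := map_nsmul (AddMonoidHom.mk' (fun a : G ⟶ G => Ext.comp y (Ext.mk₀ a) (add_zero r))
    (fun a b => by rw [Ext.mk₀_add, Ext.comp_add])) N (𝟙 G)
  simp only [AddMonoidHom.mk'_apply, Ext.comp_mk₀_id] at e
  exact e

theorem nsmul_sect {G : EtCoh.Ab X} {N : ℕ} (hG : N • 𝟙 G = 0) {V : X.Etale} (s : EtCoh.sect G V) :
    N • s = 0 := by
  have e := map_nsmul (AddMonoidHom.mk' (fun a : G ⟶ G => a.hom.app (op V) s) (fun a b => rfl)) N (𝟙 G)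
  simp only [hG, map_zero] at e
  exact e.symm

/-- Classes killed by `N` vanish one degree above the vanishing range of sheaves killed by `N`, and from
that range on if multiplication by `N` is epi. -/
theorem eq_zero_of_nsmul_eq_zero (F : EtCoh.Ab X) (N n : ℕ)
    (hkill : ∀ G : EtCoh.Ab X, N • 𝟙 G = 0 → ∀ r : ℕ, n < r → ∀ y : EtCoh.H X G r, y = 0)
    (q : ℕ) (x : EtCoh.H X F q) (hx : N • x = 0) (h : n + 1 < q ∨ (n < q ∧ Epi (N • 𝟙 F))) : x = 0 := by
  let a : F ⟶ F := N • 𝟙 F
  let π := cokernel.π (kernel.ι a)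
  let b : cokernel (kernel.ι a) ⟶ F := Abelian.factorThruCoimage a
  have hπb : π ≫ b = a := Abelian.coimage.fac a
  let S₁ := ShortComplex.mk (kernel.ι a) π (cokernel.condition _)
  have hS₁ : S₁.ShortExact := { exact := S₁.exact_of_g_is_cokernel (cokernelIsCokernel _) }
  let S₂ := ShortComplex.mk b (cokernel.π b) (cokernel.condition _)
  haveI : Mono b := inferInstanceAs (Mono (Abelian.factorThruCoimage a))
  have hS₂ : S₂.ShortExact := { exact := S₂.exact_of_g_is_cokernel (cokernelIsCokernel _) }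
  have hK : N • 𝟙 (kernel a) = 0 := by
    rw [← cancel_mono (kernel.ι a), Preadditive.nsmul_comp, Category.id_comp, zero_comp]
    have := kernel.condition a
    rwa [Preadditive.comp_nsmul, Category.comp_id] at this
  have hab : a ≫ cokernel.π b = 0 := (congrArg (· ≫ cokernel.π b) hπb.symm).trans
      ((Category.assoc _ _ _).trans ((congrArg (π ≫ ·) (cokernel.condition b)).trans comp_zero))
  have hC : N • 𝟙 (cokernel b) = 0 := by
    rw [← cancel_epi (cokernel.π b), Preadditive.comp_nsmul, Category.comp_id, comp_zero]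
    simpa only [a, Preadditive.nsmul_comp, Category.id_comp] using hab
  have hq : n < q := h.elim (fun h => by omega) fun h => h.1
  obtain ⟨q, rfl⟩ : ∃ r, q = r + 1 := ⟨q - 1, by omega⟩
  let y : EtCoh.H X (cokernel (kernel.ι a)) (q + 1) := Ext.comp x (Ext.mk₀ π) (add_zero (q + 1))
  have hy : y = 0 := by
    have h1 : Ext.comp y (Ext.mk₀ S₂.f) (add_zero (q + 1)) = 0 := by
      rw [Ext.comp_assoc_of_third_deg_zero, Ext.mk₀_comp_mk₀]
      exact (congrArg (fun c => Ext.comp x (Ext.mk₀ c) (add_zero (q + 1))) hπb).trans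
        ((comp_nsmul_id x N).trans hx)
    obtain ⟨z, hz⟩ := Ext.covariant_sequence_exact₁ _ hS₂ y h1 rfl
    suffices z = 0 by rw [← hz, this, Ext.zero_comp]
    rcases h with h | ⟨-, hepi⟩
    · exact hkill _ hC q (by omega) z
    · haveI : Epi a := hepi
      have h0 : cokernel.π b = 0 := by rw [← cancel_epi a, hab, comp_zero]
      have : 𝟙 (cokernel b) = 0 := by rw [← cancel_epi (cokernel.π b), h0, zero_comp, zero_comp]
      rw [← Ext.comp_mk₀_id z]
      simp [S₂, this]
  obtain ⟨w, hw⟩ := Ext.covariant_sequence_exact₂ _ hS₁ x hy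
  rw [← hw, hkill _ hK (q + 1) hq w, Ext.zero_comp]

end GrothLib.EtTrace21
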