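import Groth.Agent.Lib.EtTrace21.Field
import Groth.Agent.Lib.EtLimit.Free
import Groth.Agent.Lib.EtColim.Cohomology
import Groth.Agent.Lib.EtBasicB.OverField

/-!
# Cohomology of positive degree of a field is torsion
-/

set_option autoImplicit false
set_option backward.isDefEq.respectTransparency false
set_option backward.isDefEq.respectTransparency.types false
set_option linter.style.haveILetI false

universe u

open CategoryTheory CategoryTheory.Limits CategoryTheory.Abelian AlgebraicGeometry Opposite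
open GrothLib.EtColim GrothLib.EtLimit

noncomputable section

namespace GrothLib.EtTrace21

variable {X U : Scheme.{u}}

theorem evOne_comp {A B : EtCoh.Ab X} (a : Z X ⟶ A) (φ : A ⟶ B) :
    evOne B (a ≫ φ) = φ.hom.app (op (EtCoh.top X)) (evOne A a) := rfl

/-- The canonical section of the pullback of the constant sheaf. -/
theorem evOne_pullConst_inv (f : U ⟶ X) :
    evOne _ (EtCore.pullConst f ℤ).inv =
      ((EtCoh.pull f).obj (Z X)).obj.map (EtCore.bcTopIso f).inv.op
        (((EtCoh.pullPushAdj f).unit.app (Z X)).hom.app (op (EtCoh.top X)) (one X)) := by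
  have h := ConcreteCategory.congr_hom (GrothLib.EtDer.unit_pullConst f (AddCommGrpCat.of (ULift.{u + 1} ℤ))) ⟨1⟩
  simp only [ConcreteCategory.comp_apply] at h
  exact h

/-- A class of positive degree is killed by pullback to some surjective étale scheme, and thus along every
morphism with a lift to it. -/
theorem exists_etale_kill [CompactSpace X] [QuasiSeparatedSpace X] (F : EtCoh.Ab X) (n : ℕ)
    (α : EtCoh.H X F (n + 1)) :
    ∃ T : X.Etale, Surjective T.hom ∧ ∀ {U : Scheme.{u}} (j : U ⟶ X) [PreservesFiniteLimits (EtCoh.pull j)]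
      (m : U ⟶ T.left), m ≫ T.hom = j → EtCore.Hpull j F (n + 1) α = 0 := by
  let ε : ZV (EtCoh.top X) ⟶ Z X := ofSect (one X)
  obtain ⟨T, p, -, hp, h⟩ := kill_class (V := EtCoh.top X) ⟨inferInstanceAs (CompactSpace X), inferInstanceAs (QuasiSeparatedSpace X)⟩
    n F ((Ext.mk₀ ε).comp α (zero_add (n + 1)))
  rw [← Ext.comp_assoc_of_second_deg_zero, Ext.mk₀_comp_mk₀] at h
  refine ⟨T, ?_, fun {U} j _ m hm => ?_⟩
  · have e : p.left = T.hom := (Category.comp_id p.left).symm.trans (MorphismProperty.Over.w p)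
    exact e ▸ hp
  · let φ : ZV T ⟶ Z X := mapZ p ≫ ε
    let σ : EtCoh.top U ⟶ (EtCoh.bc j).obj T :=
      MorphismProperty.Over.homMk (pullback.lift m (𝟙 U) (hm.trans (Category.id_comp j).symm))
        (pullback.lift_snd _ _ _)
    let d : EtCoh.sect ((EtCoh.pull j).obj (ZV T)) (EtCoh.top U) :=
      ((EtCoh.pull j).obj (ZV T)).obj.map σ.op
        (((EtCoh.pullPushAdj j).unit.app (ZV T)).hom.app (op T) (gen T))
    obtain ⟨ψ, hψ⟩ := (bijective_evOne _).2 d
    have hψφ : ψ ≫ (EtCoh.pull j).map φ = (EtCore.pullConst j ℤ).inv := by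
      refine (bijective_evOne _).1 ?_
      rw [evOne_comp, hψ, evOne_pullConst_inv]
      refine (NatTrans.naturality_apply ((EtCoh.pull j).map φ).hom σ.op _).trans ?_
      have h1 : ((EtCoh.pull j).map φ).hom.app (op ((EtCoh.bc j).obj T))
          (((EtCoh.pullPushAdj j).unit.app (ZV T)).hom.app (op T) (gen T)) =
          ((EtCoh.pullPushAdj j).unit.app (Z X)).hom.app (op T) (φ.hom.app (op T) (gen T)) :=
        (congrArg (fun k : ZV T ⟶ _ => k.hom.app (op T) (gen T))
          ((EtCoh.pullPushAdj j).unit.naturality φ)).symm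
      have h2 : φ.hom.app (op T) (gen T) = (Z X).obj.map p.op (one X) := by
        rw [← hZV_eq, hZV_mapZ]
        congr 1
        exact Equiv.apply_symm_apply _ _
      refine (congrArg _ (h1.trans ((congrArg _ h2).trans (NatTrans.naturality_apply
        ((EtCoh.pullPushAdj j).unit.app (Z X)).hom p.op (one X))))).trans ?_
      change ((EtCoh.pull j).obj (Z X)).obj.map σ.op
        (((EtCoh.pull j).obj (Z X)).obj.map ((EtCoh.bc j).map p).op _) = _
      rw [← ConcreteCategory.comp_apply, ← Functor.map_comp, ← op_comp]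
      congr 4
      exact (EtCore.bcTopIsTerminal j).hom_ext _ _
    rw [GrothLib.EtDer.MV.Hpull_apply, ← hψφ, ← Ext.mk₀_comp_mk₀, Ext.comp_assoc_of_second_deg_zero]
    have h3 : (Ext.mk₀ ((EtCoh.pull j).map φ)).comp (α.mapExactFunctor (EtCoh.pull j)) (zero_add (n + 1)) = 0 := by
      have e := congrArg (fun z => Ext.mapExactFunctor (EtCoh.pull j) z) h
      simpa [φ, Ext.mapExactFunctor_comp, Ext.mapExactFunctor_mk₀, Ext.mapExactFunctor_zero] using e
    rw [h3, Ext.comp_zero]

/-- Positive degree cohomology of a field is torsion. -/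
theorem isOfFinAddOrder_H (k : Type u) [Field k] (F : EtCoh.Ab (Spec (CommRingCat.of k))) (n : ℕ)
    (x : EtCoh.H (Spec (CommRingCat.of k)) F (n + 1)) : IsOfFinAddOrder x := by
  obtain ⟨T, hT, h⟩ := exists_etale_kill F n x
  obtain ⟨ι, K, _, _, _, _, e, he⟩ := (GrothLib.EtBasicB.etale_of_field_iff k T.left T.hom).1 T.prop
  obtain ⟨t, -⟩ := hT.surj (show ↥(Spec (CommRingCat.of k)) from (default : PrimeSpectrum k))
  obtain ⟨i, -⟩ := (sigmaOpenCover fun i => Spec (CommRingCat.of (K i))).exists_eq (e.inv t)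
  haveI := GrothLib.EtDer.pullFL (specMap k (K i))
  have h0 := h (specMap k (K i)) (Sigma.ι (fun i => Spec (CommRingCat.of (K i))) i ≫ e.hom)
    ((Category.assoc _ _ _).trans (he i))
  exact isOfFinAddOrder_iff_nsmul_eq_zero.2
    ⟨_, Module.finrank_pos, finrank_nsmul_eq_zero k (K i) F (n + 1) x h0⟩

end GrothLib.EtTrace21
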