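import Groth.Agent.Lib.Constructible.FinEtalePush
import Groth.Agent.Lib.EtSite.PushExact
import Groth.Agent.Lib.EtDer.HpullComp
import Groth.Agent.S14451

/-!
# The trace along a finite étale morphism and its effect on cohomology
-/

set_option autoImplicit false
set_option backward.isDefEq.respectTransparency false
set_option backward.isDefEq.respectTransparency.types false
set_option linter.style.haveILetI false

universe u

open CategoryTheory CategoryTheory.Limits CategoryTheory.Abelian AlgebraicGeometry Opposite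
open GrothLib.EtSite GrothLib.ExtZero GrothLib.Constructible

noncomputable section

namespace GrothLib.EtTrace21

variable {U X : Scheme.{u}} (j : U ⟶ X) [Etale j] [IsFinite j] [EtShriek.JCont j]

omit [IsFinite j] [EtShriek.JCont j] j in
/-- A section whose germs vanish at algebraically closed geometric points is zero. -/
lemma section_eq_zero_of_germsAC (F : EtCoh.Ab X) (V : X.Etale) (s : EtCoh.sect F V)
    (h : ∀ (Ω : Type u) [Field Ω] [IsAlgClosed Ω] (ξ : Spec (CommRingCat.of Ω) ⟶ X)
      (t : (Scheme.pointSmallEtale ξ).fiber.obj V), germ ξ F t s = 0) : s = 0 := by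
  let R : Sieve V :=
    { arrows := fun W g => F.obj.map g.op s = 0
      downward_closed := by
        intro W W' g hg k
        rw [op_comp, Functor.map_comp, ConcreteCategory.comp_apply, hg, map_zero] }
  have hR : R ∈ X.smallEtaleTopology V := by
    rw [mem_topology_iff]
    intro u
    obtain ⟨t, ht⟩ := exists_fib (gac (V.hom.base u)) u (gac_default _).symm
    obtain ⟨W, g, v, hv, hg⟩ := eq_zero_nhd _ F t s (h _ _ t)
    exact ⟨W, g, v, hg, hv.trans ht⟩
  refine ((isSheaf_iff_isSheaf_of_type _ _).1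
    ((sheafCompose X.smallEtaleTopology (forget AddCommGrpCat.{u + 1})).obj F).property
    R hR).isSeparatedFor.ext fun W g (hg : F.obj.map g.op s = 0) => ?_
  change F.obj.map g.op s = F.obj.map g.op 0
  rw [hg, map_zero]

/-- The projection `V ×_X U ⟶ V` in the small étale site of `X`. -/
def proj (V : X.Etale) : (EtShriek.compEtale j).obj ((EtCoh.bc j).obj V) ⟶ V :=
  MorphismProperty.Over.homMk (pullback.fst V.hom j) pullback.condition

omit [IsFinite j] [EtShriek.JCont j] in
lemma proj_naturality {V W : X.Etale} (g : W ⟶ V) :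
    (EtShriek.compEtale j).map ((EtCoh.bc j).map g) ≫ proj j V = proj j W ≫ g :=
  MorphismProperty.Over.Hom.ext (EtCoh.isPullback_bc_map j g).w

/-- The unit `F ⟶ j_* j^* F`. -/
def unitPush (F : EtCoh.Ab X) : F ⟶ (EtCoh.push j).obj ((EtShriek.restrAlong j).obj F) :=
  ⟨{ app := fun V => F.obj.map (proj j V.unop).op
     naturality := fun V W g => by
      change F.obj.map g ≫ F.obj.map (proj j W.unop).op =
        F.obj.map (proj j V.unop).op ≫ F.obj.map ((EtShriek.compEtale j).map ((EtCoh.bc j).map g.unop)).op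
      rw [← Functor.map_comp, ← Functor.map_comp, ← op_comp, proj_naturality]
      rfl }⟩

instance isIso_toPush_app (F : EtCoh.Ab U) : IsIso ((toPush j).app F) := isIso_toPush j F

/-- The trace `j_* j^* F ⟶ F`. -/
def tr (F : EtCoh.Ab X) : (EtCoh.push j).obj ((EtShriek.restrAlong j).obj F) ⟶ F :=
  inv ((toPush j).app ((EtShriek.restrAlong j).obj F)) ≫ (EtShriek.extZeroAdj j).counit.app F

lemma counit_unitApp (F : EtCoh.Ab X) (W : U.Etale)
    (s : EtCoh.sect ((EtShriek.restrAlong j).obj F) W) :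
    ((EtShriek.extZeroAdj j).counit.app F).hom.app (op ((EtShriek.compEtale j).obj W))
      (unitApp j ((EtShriek.restrAlong j).obj F) W s) = s :=
  congrArg (fun k : (EtShriek.restrAlong j).obj F ⟶ _ => k.hom.app (op W) s)
    ((EtShriek.extZeroAdj j).right_triangle_components F)

theorem stalk_unit_tr {Ω : Type u} [Field Ω] [IsAlgClosed Ω] (ξ : Spec (CommRingCat.of Ω) ⟶ X)
    (F : EtCoh.Ab X) (y : (EtCoh.stalk ξ).obj F) :
    (EtCoh.stalk ξ).map (unitPush j F ≫ tr j F) y = Nat.card (Pts j ξ) • y := by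
  classical
  haveI := finite_pts j ξ
  haveI := Fintype.ofFinite (Pts j ξ)
  obtain ⟨V, t, s, rfl⟩ := exists_germ ξ F y
  let G := (EtShriek.restrAlong j).obj F
  let s' : EtCoh.sect G ((EtCoh.bc j).obj V) := F.obj.map (proj j V).op s
  let a : ∀ v : Pts j ξ, (EtCoh.stalk v.1).obj G := fun v => germ v.1 G (liftPt j t v.1 v.2) s'
  let x : stalkSum j ξ G :=
    ∑ v : Pts j ξ, Sigma.ι (fun v : Pts j ξ => (EtCoh.stalk v.1).obj G) v (a v)
  have hA : (EtCoh.stalk ξ).map ((toPush j).app G) (fromSum j ξ G x) =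
      (EtCoh.stalk ξ).map (unitPush j F) (germ ξ F t s) := by
    rw [stalk_map_germ]
    refine ev_jointly_injective j G _ _ fun v hv => ?_
    change component j ξ G ⟨v, hv⟩ x = _
    rw [map_sum, Finset.sum_eq_single ⟨v, hv⟩]
    · refine ((ConcreteCategory.congr_hom (ι_component j ξ G ⟨v, hv⟩ ⟨v, hv⟩) _).trans ?_)
      rw [dif_pos rfl]
      exact (ev_germ j v hv G t s').symm
    · intro v' _ hv'
      refine (ConcreteCategory.congr_hom (ι_component j ξ G ⟨v, hv⟩ v') _).trans ?_
      rw [dif_neg hv']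
      rfl
    · exact fun h => absurd (Finset.mem_univ _) h
  have hB : ∀ v : Pts j ξ, (EtCoh.stalk ξ).map ((EtShriek.extZeroAdj j).counit.app F)
      (fromSum j ξ G (Sigma.ι (fun v : Pts j ξ => (EtCoh.stalk v.1).obj G) v (a v))) = germ ξ F t s := by
    intro v
    have h1 : fromSum j ξ G (Sigma.ι (fun v : Pts j ξ => (EtCoh.stalk v.1).obj G) v (a v)) =
        germ ξ _ (liftFib j ξ v (liftPt j t v.1 v.2)) (unitApp j G ((EtCoh.bc j).obj V) s') :=
      (ConcreteCategory.congr_hom (Sigma.ι_desc (fun u => incl j ξ G u) v) _).trans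
        (ConcreteCategory.congr_hom (germ_incl j ξ G v _) s')
    rw [h1]
    refine (stalk_map_germ ξ ((EtShriek.extZeroAdj j).counit.app F) _ _).trans ?_
    refine (congrArg (germ ξ F (liftFib j ξ v (liftPt j t v.1 v.2))) (counit_unitApp j F _ s')).trans ?_
    refine (germ_map ξ F (proj j V) _ s).trans ?_
    exact congrArg (fun p => germ ξ F p s) (Over.OverMorphism.ext (pullback.lift_fst _ _ _))
  have hx : (EtCoh.stalk ξ).map (inv ((toPush j).app G))
      ((EtCoh.stalk ξ).map (unitPush j F) (germ ξ F t s)) = fromSum j ξ G x := by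
    rw [← hA, ← ConcreteCategory.comp_apply, ← Functor.map_comp, IsIso.hom_inv_id,
      CategoryTheory.Functor.map_id]
    rfl
  rw [tr, Functor.map_comp, Functor.map_comp, ConcreteCategory.comp_apply, ConcreteCategory.comp_apply, hx]
  rw [map_sum, map_sum]
  refine (Finset.sum_congr rfl fun v _ => hB v).trans ?_
  rw [Finset.sum_const, Finset.card_univ, Nat.card_eq_fintype_card]

/-- The trace composed with the unit is multiplication by the degree. -/
theorem unit_tr (F : EtCoh.Ab X) (n : ℕ)
    (hn : ∀ (Ω : Type u) [Field Ω] [IsAlgClosed Ω] (ξ : Spec (CommRingCat.of Ω) ⟶ X), Nat.card (Pts j ξ) = n) :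
    unitPush j F ≫ tr j F = n • 𝟙 F := by
  refine ObjectProperty.hom_ext _ (NatTrans.ext ?_)
  ext V s
  refine sub_eq_zero.1 (section_eq_zero_of_germsAC F V.unop _ fun Ω _ _ ξ p => ?_)
  have h := stalk_unit_tr j ξ F (germ ξ F p s)
  rw [stalk_map_germ, hn Ω ξ] at h
  rw [map_sub, sub_eq_zero]
  refine h.trans ?_
  have e := map_nsmul (AddMonoidHom.mk' (fun k : F ⟶ F => germ ξ F p (k.hom.app V s))
    (fun a b => map_add (germ ξ F p).hom _ _)) n (𝟙 F)
  exact e.symm

/-- A class killed by pullback along a finite étale morphism of degree `n` is killed by `n`. -/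
theorem nsmul_eq_zero_of_Hpull_eq_zero [PreservesFiniteLimits (EtCoh.pull j)] (F : EtCoh.Ab X) (i n : ℕ)
    (hn : ∀ (Ω : Type u) [Field Ω] [IsAlgClosed Ω] (ξ : Spec (CommRingCat.of Ω) ⟶ X), Nat.card (Pts j ξ) = n)
    (α : EtCoh.H X F i) (h : EtCore.Hpull j F i α = 0) : n • α = 0 := by
  let G := (EtShriek.restrAlong j).obj F
  let β : EtCoh.H X ((EtCoh.push j).obj G) i := Ext.comp α (Ext.mk₀ (unitPush j F)) (add_zero i)
  have hβ : β = 0 := by
    refine (Groth.Agent.S14451.result j G (fun q hq => isZero_Rpush_of_integral j G q hq) i).1 ?_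
    rw [map_zero]
    have e : EtCore.Hpull j ((EtCoh.push j).obj G) i β =
        Ext.comp (EtCore.Hpull j F i α) (Ext.mk₀ ((EtCoh.pull j).map (unitPush j F))) (add_zero i) := by
      rw [GrothLib.EtDer.MV.Hpull_apply, GrothLib.EtDer.MV.Hpull_apply]
      simp [β, Ext.mapExactFunctor_comp, Ext.mapExactFunctor_mk₀, Ext.comp_assoc_of_third_deg_zero]
    change ((EtCoh.HF U i).map _).hom (EtCore.Hpull j _ i β) = 0
    rw [e, h, Ext.zero_comp, map_zero]
  have : n • α = Ext.comp β (Ext.mk₀ (tr j F)) (add_zero i) := by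
    rw [show Ext.comp β (Ext.mk₀ (tr j F)) (add_zero i) =
      Ext.comp α (Ext.mk₀ (unitPush j F ≫ tr j F)) (add_zero i) by
        simp [β, Ext.mk₀_comp_mk₀], unit_tr j F n hn]
    have e := map_nsmul (AddMonoidHom.mk' (fun k : F ⟶ F => Ext.comp α (Ext.mk₀ k) (add_zero i))
      (fun a b => by rw [Ext.mk₀_add, Ext.comp_add])) n (𝟙 F)
    simp only [AddMonoidHom.mk'_apply, Ext.comp_mk₀_id] at e
    exact e.symm
  rw [this, hβ, Ext.zero_comp]

end GrothLib.EtTrace21
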