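import Groth.Agent.Lib.EtTrace21.H1Field
import Groth.Agent.Lib.EtDer.ConstSec
import Mathlib.RepresentationTheory.Homological.GroupCohomology.Hilbert90
import Mathlib.GroupTheory.Torsion
import Groth.Prelude.Def_GSzGalSym

/-!
# Vanishing of degree one cohomology of a field
-/

set_option autoImplicit false
set_option backward.isDefEq.respectTransparency false
set_option backward.isDefEq.respectTransparency.types false
set_option linter.style.haveILetI false

universe u

open CategoryTheory CategoryTheory.Limits CategoryTheory.Abelian AlgebraicGeometry Opposite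
open GrothLib.EtSite GrothLib.EtColim GrothLib.EtLimit

noncomputable section

namespace GrothLib.EtTrace21

variable {k L : Type u} [Field k] [Field L] [Algebra k L] [FiniteDimensional k L] [Algebra.IsSeparable k L]

/-- Sections of the multiplicative group sheaf over a finite extension are its units. -/
def unitsEquiv : EtCoh.sect (EtCoh.Gm (Spec (CommRingCat.of k))) (VL k L) ≃+ Additive Lˣ :=
  show ULift.{u + 1} (Additive (Γ(Spec (CommRingCat.of L), ⊤) : Type u)ˣ) ≃+ Additive Lˣ from AddEquiv.ulift.trans (MulEquiv.toAdditive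
    (Units.mapEquiv (Scheme.ΓSpecIso (CommRingCat.of L)).commRingCatIsoToRingEquiv.toMulEquiv))

theorem unitsEquiv_act (σ : L ≃ₐ[k] L) (a : EtCoh.sect (EtCoh.Gm (Spec (CommRingCat.of k))) (VL k L)) :
    (unitsEquiv (act _ σ a)).toMul = σ • (unitsEquiv a).toMul := by
  refine Units.ext ?_
  exact congr($(Scheme.ΓSpecIso_naturality (CommRingCat.ofHom (σ : L →+* L))) (Additive.toMul a.down).val)

/-- Hilbert's theorem 90 in etale cohomology. -/
theorem subsingleton_H_one_Gm (k : Type u) [Field k] :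
    Subsingleton (EtCoh.H (Spec (CommRingCat.of k)) (EtCoh.Gm (Spec (CommRingCat.of k))) 1) := by
  refine subsingleton_H_one k _ fun L _ _ _ _ c hc => ?_
  obtain ⟨β, hβ⟩ := groupCohomology.isMulCoboundary₁_of_isMulCocycle₁_of_aut_to_units
    (fun σ => (unitsEquiv (c σ)).toMul) fun σ τ => by
      show (unitsEquiv (c (σ * τ))).toMul = _
      rw [hc, map_add, toMul_add, unitsEquiv_act]
  refine ⟨unitsEquiv.symm (Additive.ofMul β), fun σ => unitsEquiv.injective ?_⟩
  rw [map_sub, AddEquiv.apply_symm_apply]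
  refine Additive.toMul.injective ?_
  rw [toMul_sub, unitsEquiv_act, AddEquiv.apply_symm_apply]
  exact (hβ σ).symm

/-- Constant torsion-free coefficients have no degree one cohomology on a field. -/
theorem subsingleton_H_one_const (k : Type u) [Field k] (M : Type) [AddCommGroup M] [IsAddTorsionFree M] :
    Subsingleton (EtCoh.H (Spec (CommRingCat.of k)) (EtCoh.const (Spec (CommRingCat.of k)) M) 1) := by
  refine subsingleton_H_one k _ fun L _ _ _ _ c hc => ⟨0, fun σ => ?_⟩
  let A := AddCommGrpCat.of (ULift.{u + 1} M)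
  let v : ↥(VL k L).left := (default : PrimeSpectrum L)
  have hv : ∀ p : ↥(VL k L).left, p = v := fun p => Subsingleton.elim (α := PrimeSpectrum L) _ _
  have hs : ∀ s : EtCoh.sect (GrothLib.EtDer.CM A (Spec (CommRingCat.of k))) (VL k L),
      GrothLib.EtDer.cst A _ (GrothLib.EtDer.val A _ s v) = s := fun s =>
    GrothLib.EtDer.ext_val A _ _ _ fun p => by rw [GrothLib.EtDer.val_cst, hv p]
  have hact : ∀ (τ : L ≃ₐ[k] L) (s : EtCoh.sect (GrothLib.EtDer.CM A (Spec (CommRingCat.of k))) (VL k L)),
      act _ τ s = s := fun τ s => by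
    conv_rhs => rw [← hs s]
    conv_lhs => rw [← hs s]
    exact GrothLib.EtDer.map_cst A (galMap τ) _
  rw [map_zero, sub_zero]
  let f : Additive (L ≃ₐ[k] L) →+ A := AddMonoidHom.mk' (fun g => GrothLib.EtDer.val A _ (c g.toMul) v) fun g g' => by
    refine GrothLib.EtDer.cst_injective A (VL k L) v ?_
    rw [toMul_add, hs, map_add, hs, hs, hc, hact, add_comm]
  have h0 : IsOfFinAddOrder (f (Additive.ofMul σ)) := AddMonoidHom.isOfFinAddOrder f (isOfFinAddOrder_of_finite _)
  have h1 : f (Additive.ofMul σ) = 0 := by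
    obtain ⟨n, hn, hn0⟩ := isOfFinAddOrder_iff_nsmul_eq_zero.1 h0
    have e : n • (f (Additive.ofMul σ)).down = 0 := congrArg ULift.down hn0
    exact ULift.ext _ _ ((nsmul_eq_zero_iff_right hn.ne').1 e)
  rw [← hs (c σ)]
  exact (congrArg (GrothLib.EtDer.cst A _) h1).trans (map_zero _)

end GrothLib.EtTrace21

namespace GrothLib.EtTrace21

theorem evOne_unitMor {X : Scheme.{u}} (a : (Γ(X, ⊤) : Type u)ˣ) :
    evOne (EtCoh.Gm X) (GalSym.unitMor X a) = GalSym.unitSection X a := by
  have he : ∀ b : Z X ⟶ EtCoh.Gm X, evOne _ b = (EtCore.constAdj X).homEquiv _ _ b ⟨1⟩ := fun b => by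
    rw [Adjunction.homEquiv_unit]
    rfl
  rw [he]
  refine (congrArg (fun φ => φ ⟨(1 : ℤ)⟩) (Equiv.apply_symm_apply _ (GalSym.unitHom X a))).trans ?_
  exact one_zsmul _

/-- Degree one cohomology of a direct image injects into that of the source. -/
theorem subsingleton_H_one_push {U X : Scheme.{u}} (f : U ⟶ X) [PreservesFiniteLimits (EtCoh.pull f)]
    (F : EtCoh.Ab U) [Subsingleton (EtCoh.H U F 1)] : Subsingleton (EtCoh.H X ((EtCoh.push f).obj F) 1) := by
  suffices hx : ∀ x : EtCoh.H X ((EtCoh.push f).obj F) 1, x = 0 from ⟨fun a b => (hx a).trans (hx b).symm⟩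
  intro x
  let S := injS F
  haveI : Injective S.X₂ := inferInstanceAs (Injective (Injective.under F))
  haveI := GrothLib.EtDer.injective_push f S.X₂
  haveI : PreservesFiniteLimits (EtCoh.push f) :=
    ((EtCoh.pullPushAdj f).rightAdjoint_preservesLimits : PreservesLimitsOfSize.{0, 0} _).preservesFiniteLimits
  haveI : Mono ((EtCoh.push f).map S.f) := (EtCoh.push f).map_mono S.f
  let a := (EtCoh.push f).map S.f
  let T := ShortComplex.mk a (cokernel.π a) (cokernel.condition a)
  have hT : T.ShortExact := { exact := T.exact_of_g_is_cokernel (cokernelIsCokernel _) }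
  haveI : Injective T.X₂ := inferInstanceAs (Injective ((EtCoh.push f).obj S.X₂))
  have hex := (injS_shortExact F).exact.map_of_mono_of_preservesKernel (EtCoh.push f) inferInstance inferInstance
  obtain ⟨c, rfl⟩ := Ext.covariant_sequence_exact₁ _ hT x (Ext.eq_zero_of_injective _) rfl
  obtain ⟨c, rfl⟩ := (Ext.mk₀_bijective _ _).2 c
  let b : T.X₃ ⟶ (EtCoh.push f).obj S.X₃ := cokernel.desc a ((EtCoh.push f).map S.g)
    (by rw [← Functor.map_comp, S.zero, Functor.map_zero])
  haveI : Mono b := hex.mono_cokernelDesc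
  let d : Z U ⟶ S.X₃ :=
    (EtCore.pullConst f ℤ).inv ≫ ((EtCoh.pullPushAdj f).homEquiv _ _).symm (c ≫ b)
  obtain ⟨y, hy⟩ := Ext.covariant_sequence_exact₃ _ (injS_shortExact F) (Ext.mk₀ d) rfl
    (Subsingleton.elim (α := EtCoh.H U F 1) _ 0)
  obtain ⟨w, rfl⟩ := (Ext.mk₀_bijective _ _).2 y
  rw [Ext.mk₀_comp_mk₀] at hy
  have hw : w ≫ S.g = d := (Ext.mk₀_bijective _ _).1 hy
  let w' : EtCoh.const X ℤ ⟶ T.X₂ :=
    (EtCoh.pullPushAdj f).homEquiv _ _ ((EtCore.pullConst f ℤ).hom ≫ w)
  have hc : w' ≫ T.g = c := by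
    rw [← cancel_mono b, Category.assoc]
    have : T.g ≫ b = (EtCoh.push f).map S.g := cokernel.π_desc _ _ _
    rw [this, ← Adjunction.homEquiv_naturality_right, Category.assoc, hw]
    simp [d]
  rw [← hc, ← Ext.mk₀_comp_mk₀, Ext.comp_assoc_of_second_deg_zero, hT.comp_extClass, Ext.comp_zero]

end GrothLib.EtTrace21
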