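import Groth.Agent.Lib.EtTrace21.Basic
import Mathlib.RingTheory.Etale.Field
import Mathlib.FieldTheory.PrimitiveElement

/-!
# The trace for finite separable field extensions
-/

set_option autoImplicit false
set_option backward.isDefEq.respectTransparency false
set_option backward.isDefEq.respectTransparency.types false
set_option linter.style.haveILetI false

universe u

open CategoryTheory CategoryTheory.Limits CategoryTheory.Abelian AlgebraicGeometry Opposite
open GrothLib.EtSite GrothLib.ExtZero GrothLib.Constructible

noncomputable section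

namespace GrothLib.EtTrace21

variable (K L : Type u) [Field K] [Field L] [Algebra K L] [FiniteDimensional K L] [Algebra.IsSeparable K L]

/-- The morphism of spectra of a field extension. -/
abbrev specMap : Spec (CommRingCat.of L) ⟶ Spec (CommRingCat.of K) :=
  Spec.map (CommRingCat.ofHom (algebraMap K L))

theorem isFinite_specMap : IsFinite (specMap K L) :=
  (IsFinite.SpecMap_iff _).2 (RingHom.finite_algebraMap.2 inferInstance)

theorem etale_specMap : Etale (specMap K L) := by
  haveI : Algebra.FormallyEtale K L := (Algebra.FormallyEtale.iff_isSeparable K L).2 inferInstance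
  haveI : Algebra.Etale K L := ⟨inferInstance, Algebra.FinitePresentation.of_finiteType.1 inferInstance⟩
  rw [HasRingHomProperty.Spec_iff (P := @Etale.{u})]
  exact RingHom.etale_algebraMap.2 inferInstance

theorem natCard_pts (Ω : Type u) [Field Ω] [IsAlgClosed Ω]
    (ξ : Spec (CommRingCat.of Ω) ⟶ Spec (CommRingCat.of K)) :
    Nat.card (Pts (specMap K L) ξ) = Module.finrank K L := by
  letI : Algebra K Ω := (Spec.preimage ξ).hom.toAlgebra
  have hξ : Spec.map (CommRingCat.ofHom (algebraMap K Ω)) = ξ := Spec.map_preimage ξ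
  rw [← AlgHom.card K L Ω, ← Nat.card_eq_fintype_card]
  refine Nat.card_congr
    { toFun := fun p => AlgHom.mk (Spec.preimage p.1).hom fun r => ?_
      invFun := fun φ => ⟨Spec.map (CommRingCat.ofHom φ.toRingHom), ?_⟩
      left_inv := fun p => Subtype.ext ?_
      right_inv := fun φ => AlgHom.ext fun x => ?_ }
  · have h : Spec.map (CommRingCat.ofHom (algebraMap K L) ≫ Spec.preimage p.1) = ξ := by
      rw [Spec.map_comp, Spec.map_preimage]; exact p.2
    exact congr($(Spec.map_injective (h.trans hξ.symm)) r)
  · rw [← hξ, ← Spec.map_comp, ← CommRingCat.ofHom_comp]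
    congr 2
    exact φ.comp_algebraMap
  · exact Spec.map_preimage _
  · change (Spec.preimage (Spec.map (CommRingCat.ofHom φ.toRingHom))).hom x = _
    rw [Spec.preimage_map]
    rfl

/-- The degree of a finite separable extension killing a class kills it. -/
theorem finrank_nsmul_eq_zero (F : EtCoh.Ab (Spec (CommRingCat.of K))) (i : ℕ)
    (α : EtCoh.H (Spec (CommRingCat.of K)) F i) [PreservesFiniteLimits (EtCoh.pull (specMap K L))]
    (h : EtCore.Hpull (specMap K L) F i α = 0) : Module.finrank K L • α = 0 := by
  haveI := etale_specMap K L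
  haveI := isFinite_specMap K L
  haveI := jcont (specMap K L)
  exact nsmul_eq_zero_of_Hpull_eq_zero (specMap K L) F i _ (fun Ω _ _ ξ => natCard_pts K L Ω ξ) α h

/-- Restriction along an étale morphism preserves torsion sheaves. -/
theorem isTorsion_restrAlong {U X : Scheme.{u}} (j : U ⟶ X) [Etale j] [EtShriek.JCont j] {F : EtCoh.Ab X}
    (hF : EtCoh.IsTorsion F) : EtCoh.IsTorsion ((EtShriek.restrAlong j).obj F) := by
  intro V s x
  obtain ⟨W, g, hx, hs⟩ := hF ((EtShriek.compEtale j).obj V) s x
  obtain ⟨w, hw⟩ := hx
  let V' : U.Etale := MorphismProperty.Over.mk ⊤ (g.left ≫ V.hom) (by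
    have e : g.left ≫ V.hom ≫ j = W.hom := MorphismProperty.Over.w g
    have hW : EtCoh.etaleMP ((g.left ≫ V.hom) ≫ j) := by rw [Category.assoc, e]; exact W.prop
    exact EtCoh.etaleMP.of_postcomp (W' := EtCoh.etaleMP) (g.left ≫ V.hom) j ‹Etale j› hW)
  let g' : V' ⟶ V := MorphismProperty.Over.homMk g.left rfl
  let k : (EtShriek.compEtale j).obj V' ⟶ W :=
    MorphismProperty.Over.homMk (𝟙 W.left) (by
      change 𝟙 W.left ≫ W.hom = (g.left ≫ V.hom) ≫ j
      rw [Category.id_comp, Category.assoc]
      exact (MorphismProperty.Over.w g).symm)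
  have e : (EtShriek.compEtale j).map g' = k ≫ g :=
    MorphismProperty.Over.Hom.ext (Category.id_comp _).symm
  refine ⟨V', g', ⟨w, hw⟩, ?_⟩
  change IsOfFinAddOrder (F.obj.map ((EtShriek.compEtale j).map g').op s)
  rw [e, op_comp, Functor.map_comp, ConcreteCategory.comp_apply]
  exact AddMonoidHom.isOfFinAddOrder (F.obj.map k.op).hom hs

end GrothLib.EtTrace21
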