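import Groth.Agent.Lib.EtTrace21.Torsion
import Groth.Agent.Lib.EtLimit.TorsionRpush
import Groth.Agent.Lib.DerCat.DimShiftRD
import Groth.Agent.Lib.EtDer.Injective
import Mathlib.AlgebraicGeometry.Morphisms.QuasiFinite

/-!
# Direct images from fields: torsion
-/

set_option autoImplicit false
set_option backward.isDefEq.respectTransparency false
set_option backward.isDefEq.respectTransparency.types false
set_option linter.style.haveILetI false

universe u

open CategoryTheory CategoryTheory.Limits CategoryTheory.Abelian AlgebraicGeometry Opposite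
open GrothLib.EtSite GrothLib.EtColim GrothLib.EtLimit

noncomputable section

namespace GrothLib.EtTrace21

/-- The injective embedding as a short complex. -/
abbrev injS {X : Scheme.{u}} (F : EtCoh.Ab X) : ShortComplex (EtCoh.Ab X) :=
  ShortComplex.mk (Injective.ι F) (cokernel.π (Injective.ι F)) (cokernel.condition _)

theorem injS_shortExact {X : Scheme.{u}} (F : EtCoh.Ab X) : (injS F).ShortExact :=
  { exact := (injS F).exact_of_g_is_cokernel (cokernelIsCokernel _) }

variable {k : Type u} [Field k] {X : Scheme.{u}}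

/-- Over a quasi-compact étale scheme over a field some multiple of a section of the target of an
epimorphism with injective kernel lifts. -/
theorem exists_nsmul_lift (S : ShortComplex (EtCoh.Ab (Spec (CommRingCat.of k)))) (hS : S.ShortExact)
    (W : (Spec (CommRingCat.of k)).Etale) [CompactSpace W.left] (s : EtCoh.sect S.X₃ W) :
    ∃ (m : ℕ) (z : EtCoh.sect S.X₂ W), 0 < m ∧ S.g.hom.app (op W) z = m • s := by
  let j : W.left ⟶ Spec (CommRingCat.of k) := W.hom
  haveI : Etale j := W.prop
  haveI : LocallyQuasiFinite j := GrothLib.EtBasicB.locallyQuasiFinite_of_unramified j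
  haveI : QuasiCompact j := (quasiCompact_iff_compactSpace j).2 inferInstance
  haveI : IsFinite j := IsFinite.of_locallyQuasiFinite j
  haveI := GrothLib.Constructible.jcont j
  haveI := GrothLib.EtDer.pullFL j
  haveI : PreservesFiniteLimits (EtShriek.restrAlong j) :=
    preservesFiniteLimits_of_natIso (GrothLib.ExtZero.restrIsoPull j).symm
  haveI : PreservesFiniteColimits (EtShriek.restrAlong j) :=
    preservesFiniteColimits_of_natIso (GrothLib.ExtZero.restrIsoPull j).symm
  haveI : (EtShriek.restrAlong j).Additive := Functor.additive_of_preserves_binary_products _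
  haveI : (EtCoh.push j).PreservesHomology := GrothLib.EtSite.preservesHomology_push j
  haveI : PreservesFiniteLimits (EtCoh.push j) := Functor.preservesFiniteLimits_of_preservesHomology _
  haveI : PreservesFiniteColimits (EtCoh.push j) := Functor.preservesFiniteColimits_of_preservesHomology _
  let Φ := EtShriek.restrAlong j ⋙ EtCoh.push j
  have hT : (S.map Φ).ShortExact := hS.map_of_exact Φ
  let tp := EtCoh.top (Spec (CommRingCat.of k))
  let g : (EtShriek.compEtale j).obj ((EtCoh.bc j).obj tp) ⟶ W :=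
    MorphismProperty.Over.homMk (pullback.snd (𝟙 _) j) rfl
  let g' : W ⟶ (EtShriek.compEtale j).obj ((EtCoh.bc j).obj tp) :=
    MorphismProperty.Over.homMk (pullback.lift j (𝟙 _) ((Category.comp_id j).trans (Category.id_comp j).symm)) (by
      change pullback.lift j (𝟙 _) _ ≫ pullback.snd (𝟙 _) j ≫ j = j
      rw [pullback.lift_snd_assoc, Category.id_comp])
  have hg : g' ≫ g = 𝟙 W := MorphismProperty.Over.Hom.ext (pullback.lift_snd _ _ _)
  let s₁ : EtCoh.sect (Φ.obj S.X₃) tp := S.X₃.obj.map g.op s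
  obtain ⟨φ, hφ⟩ := (bijective_evOne (Φ.obj S.X₃)).2 s₁
  obtain ⟨m, hm, hm0⟩ := isOfFinAddOrder_iff_nsmul_eq_zero.1
    (isOfFinAddOrder_H k _ 0 ((Ext.mk₀ φ).comp hT.extClass rfl))
  have h0 : (Ext.mk₀ (m • φ)).comp hT.extClass (zero_add 1) = 0 := by
    have e := map_nsmul (AddMonoidHom.mk' (fun a : Z _ ⟶ Φ.obj S.X₃ => (Ext.mk₀ a).comp hT.extClass (zero_add 1))
      (fun a b => by rw [Ext.mk₀_add, Ext.add_comp])) m φ
    exact e.trans hm0
  obtain ⟨y, hy⟩ := Ext.covariant_sequence_exact₃ _ hT (Ext.mk₀ (m • φ)) rfl h0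
  obtain ⟨ψ, rfl⟩ := (Ext.mk₀_bijective _ _).2 y
  rw [Ext.mk₀_comp_mk₀] at hy
  have hψ : ψ ≫ Φ.map S.g = m • φ := (Ext.mk₀_bijective _ _).1 hy
  refine ⟨m, S.X₂.obj.map g'.op (evOne _ ψ : EtCoh.sect (Φ.obj S.X₂) tp), hm, ?_⟩
  have e1 : (Φ.map S.g).hom.app (op tp) (evOne _ ψ) = m • s₁ := by
    rw [← hφ]
    refine (congrArg (evOne (Φ.obj S.X₃)) hψ).trans ?_
    exact map_nsmul (AddMonoidHom.mk' (fun a : Z _ ⟶ Φ.obj S.X₃ => evOne (Φ.obj S.X₃) a) (fun _ _ => rfl)) m φ
  refine (NatTrans.naturality_apply S.g.hom g'.op _).trans ?_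
  refine (congrArg (S.X₃.obj.map g'.op) e1).trans ?_
  refine (map_nsmul (S.X₃.obj.map g'.op).hom m _).trans (congrArg (fun z => m • z) ?_)
  change S.X₃.obj.map g'.op (S.X₃.obj.map g.op s) = s
  rw [← ConcreteCategory.comp_apply, ← Functor.map_comp, ← op_comp, hg, op_id, CategoryTheory.Functor.map_id]
  rfl

theorem isTorsion_of_iso {A B : EtCoh.Ab X} (e : A ≅ B) (h : EtCoh.IsTorsion A) : EtCoh.IsTorsion B := by
  intro U s x
  obtain ⟨V, g, hv, hs⟩ := h U (e.inv.hom.app (op U) s) x
  refine ⟨V, g, hv, ?_⟩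
  have h2 := AddMonoidHom.isOfFinAddOrder (e.hom.hom.app (op V)).hom hs
  have e2 : e.hom.hom.app (op V) (A.obj.map g.op (e.inv.hom.app (op U) s)) = B.obj.map g.op s := by
    refine (NatTrans.naturality_apply e.hom.hom g.op _).trans (congrArg (B.obj.map g.op) ?_)
    exact congr($(congrArg (fun a : B ⟶ B => a.hom.app (op U)) e.inv_hom_id) s)
  exact e2 ▸ h2

variable (f : Spec (CommRingCat.of k) ⟶ X) [QuasiCompact f] [QuasiSeparated f]

theorem isTorsion_cokernel_push {S : ShortComplex (EtCoh.Ab (Spec (CommRingCat.of k)))} (hS : S.ShortExact) :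
    EtCoh.IsTorsion (cokernel ((EtCoh.push f).map S.g)) := by
  intro U t x
  let π := cokernel.π ((EtCoh.push f).map S.g)
  haveI : Sheaf.IsLocallySurjective π := (Sheaf.isLocallySurjective_iff_epi' _ π).2 inferInstance
  obtain ⟨W, g, w, ⟨s, hs⟩, hw⟩ := (mem_topology_iff _).1
    (Presheaf.imageSieve_mem X.smallEtaleTopology π.hom t) x
  obtain ⟨_, ⟨A, hA, rfl⟩, hwA, -⟩ := W.left.isBasis_affineOpens.exists_subset_of_mem_open
    (Set.mem_univ w) isOpen_univ
  let A₀ : W.left.Opens := A
  let V := opensObj W A₀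
  let ι : V ⟶ W := opensHom W A₀
  have hV : Qcqs V :=
    haveI : IsAffine A₀.toScheme := hA
    ⟨(isCompact_iff_compactSpace.1 hA.isCompact :), (inferInstance : QuasiSeparatedSpace ↥A₀.toScheme)⟩
  refine ⟨V, ι ≫ g, ⟨(⟨w, hwA⟩ : A₀), hw⟩, ?_⟩
  haveI := (qcqs_bc_of_qcqs f hV).1
  let sV : EtCoh.sect S.X₃ ((EtCoh.bc f).obj V) := ((EtCoh.push f).obj S.X₃).obj.map ι.op s
  obtain ⟨m, z, hm, hz⟩ := exists_nsmul_lift S hS ((EtCoh.bc f).obj V) sV
  refine isOfFinAddOrder_iff_nsmul_eq_zero.2 ⟨m, hm, ?_⟩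
  have e : (cokernel ((EtCoh.push f).map S.g)).obj.map (ι ≫ g).op t = π.hom.app (op V) sV := by
    refine (ConcreteCategory.congr_hom ((cokernel ((EtCoh.push f).map S.g)).obj.map_comp g.op ι.op) t).trans ?_
    refine (congrArg ((cokernel ((EtCoh.push f).map S.g)).obj.map ι.op) hs.symm).trans ?_
    exact (NatTrans.naturality_apply π.hom ι.op s).symm
  rw [e]
  refine (map_nsmul (π.hom.app (op V)).hom m sV).symm.trans ?_
  refine (congrArg (π.hom.app (op V)) (show m • sV = ((EtCoh.push f).map S.g).hom.app (op V) z from hz.symm)).trans ?_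
  exact congr($(congrArg (fun a : (EtCoh.push f).obj S.X₂ ⟶ _ => a.hom.app (op V))
    (cokernel.condition ((EtCoh.push f).map S.g))) z)

/-- Positive higher direct images from a field are torsion. -/
theorem isTorsion_Rpush_field : ∀ (q : ℕ) (F : EtCoh.Ab (Spec (CommRingCat.of k))),
    EtCoh.IsTorsion ((EtCoh.Rpush f (q + 1)).obj F) := by
  intro q
  haveI : PreservesFiniteLimits (EtCoh.push f) :=
    ((EtCoh.pullPushAdj f).rightAdjoint_preservesLimits : PreservesLimitsOfSize.{0, 0} _).preservesFiniteLimits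
  induction q with
  | zero =>
    intro F
    haveI : Injective (injS F).X₂ := inferInstanceAs (Injective (Injective.under F))
    exact isTorsion_of_iso (GrothLib.HomGamma.shiftIsoOne (injS_shortExact F) (EtCoh.push f)).symm
      (isTorsion_cokernel_push f (injS_shortExact F))
  | succ q ih =>
    intro F
    haveI : Injective (injS F).X₂ := inferInstanceAs (Injective (Injective.under F))
    exact isTorsion_of_iso (GrothLib.HomGamma.shiftIso (injS_shortExact F) (EtCoh.push f) q).symm (ih _)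

omit [QuasiCompact f] [QuasiSeparated f] in
theorem adjMap_naturality' [PreservesFiniteLimits (EtCoh.pull f)] {F G : EtCoh.Ab (Spec (CommRingCat.of k))}
    (a : F ⟶ G) (n : ℕ) (x : EtCoh.H X ((EtCoh.push f).obj F) n) :
    EtLim.HofPush f G n (Ext.comp x (Ext.mk₀ ((EtCoh.push f).map a)) (add_zero n)) =
      Ext.comp (EtLim.HofPush f F n x) (Ext.mk₀ a) (add_zero n) := by
  change Ext.comp (EtCore.Hpull f ((EtCoh.push f).obj G) n _) (Ext.mk₀ _) (add_zero n) =
    Ext.comp (Ext.comp (EtCore.Hpull f ((EtCoh.push f).obj F) n x) (Ext.mk₀ _) (add_zero n)) _ _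
  have e : EtCore.Hpull f ((EtCoh.push f).obj G) n (Ext.comp x (Ext.mk₀ ((EtCoh.push f).map a)) (add_zero n)) =
      Ext.comp (EtCore.Hpull f ((EtCoh.push f).obj F) n x)
        (Ext.mk₀ ((EtCoh.pull f).map ((EtCoh.push f).map a))) (add_zero n) := by
    rw [GrothLib.EtDer.MV.Hpull_apply, GrothLib.EtDer.MV.Hpull_apply]
    simp [Ext.mapExactFunctor_comp, Ext.mapExactFunctor_mk₀, Ext.comp_assoc_of_third_deg_zero]
  rw [e, Ext.comp_assoc_of_third_deg_zero, Ext.comp_assoc_of_third_deg_zero, Ext.mk₀_comp_mk₀, Ext.mk₀_comp_mk₀]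
  exact congrArg (fun m => Ext.comp _ (Ext.mk₀ m) (add_zero n)) ((EtCoh.pullPushAdj f).counit.naturality a)

/-- Positive cohomology of a direct image from a field is torsion. -/
theorem isOfFinAddOrder_H_push [CompactSpace X] [QuasiSeparatedSpace X] :
    ∀ (q : ℕ) (F : EtCoh.Ab (Spec (CommRingCat.of k))) (x : EtCoh.H X ((EtCoh.push f).obj F) (q + 1)),
      IsOfFinAddOrder x := by
  intro q
  induction q with
  | zero =>
    intro F x
    let S := injS F
    haveI : Injective S.X₂ := inferInstanceAs (Injective (Injective.under F))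
    haveI := GrothLib.EtDer.injective_push f S.X₂
    haveI : PreservesFiniteLimits (EtCoh.push f) :=
      ((EtCoh.pullPushAdj f).rightAdjoint_preservesLimits : PreservesLimitsOfSize.{0, 0} _).preservesFiniteLimits
    haveI : Mono ((EtCoh.push f).map S.f) := (EtCoh.push f).map_mono S.f
    let a := (EtCoh.push f).map S.f
    let T := ShortComplex.mk a (cokernel.π a) (cokernel.condition a)
    have hT : T.ShortExact := { exact := T.exact_of_g_is_cokernel (cokernelIsCokernel _) }
    haveI : Injective T.X₂ := inferInstanceAs (Injective ((EtCoh.push f).obj S.X₂))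
    have hex := (injS_shortExact F).exact.map_of_mono_of_preservesKernel (EtCoh.push f) inferInstance inferInstance
    obtain ⟨c, rfl⟩ := Ext.covariant_sequence_exact₁ _ hT x (Ext.eq_zero_of_injective _) rfl
    obtain ⟨c, rfl⟩ := (Ext.mk₀_bijective _ _).2 c
    let b : T.X₃ ⟶ (EtCoh.push f).obj S.X₃ := cokernel.desc a ((EtCoh.push f).map S.g)
      (by rw [← Functor.map_comp, S.zero, Functor.map_zero])
    haveI : Mono b := hex.mono_cokernelDesc
    let d : Z (Spec (CommRingCat.of k)) ⟶ S.X₃ :=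
      (EtCore.pullConst f ℤ).inv ≫ ((EtCoh.pullPushAdj f).homEquiv _ _).symm (c ≫ b)
    obtain ⟨m, hm, hm0⟩ := isOfFinAddOrder_iff_nsmul_eq_zero.1
      (isOfFinAddOrder_H k F 0 ((Ext.mk₀ d).comp (injS_shortExact F).extClass rfl))
    have h0 : (Ext.mk₀ (m • d)).comp (injS_shortExact F).extClass (zero_add 1) = 0 := by
      have e := map_nsmul (AddMonoidHom.mk' (fun a : Z _ ⟶ S.X₃ => (Ext.mk₀ a).comp (injS_shortExact F).extClass (zero_add 1))
        (fun a b => by rw [Ext.mk₀_add, Ext.add_comp])) m d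
      exact e.trans hm0
    obtain ⟨y, hy⟩ := Ext.covariant_sequence_exact₃ _ (injS_shortExact F) (Ext.mk₀ (m • d)) rfl h0
    obtain ⟨w, rfl⟩ := (Ext.mk₀_bijective _ _).2 y
    rw [Ext.mk₀_comp_mk₀] at hy
    have hw : w ≫ S.g = m • d := (Ext.mk₀_bijective _ _).1 hy
    let w' : EtCoh.const X ℤ ⟶ T.X₂ :=
      (EtCoh.pullPushAdj f).homEquiv _ _ ((EtCore.pullConst f ℤ).hom ≫ w)
    have hc : w' ≫ T.g = m • c := by
      rw [← cancel_mono b, Category.assoc]
      have : T.g ≫ b = (EtCoh.push f).map S.g := cokernel.π_desc _ _ _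
      rw [this, ← Adjunction.homEquiv_naturality_right, Category.assoc, hw, Preadditive.comp_nsmul,
        Preadditive.nsmul_comp]
      have e := map_nsmul (AddMonoidHom.mk' (fun z : (EtCoh.pull f).obj (EtCoh.const X ℤ) ⟶ S.X₃ =>
        (EtCoh.pullPushAdj f).homEquiv _ _ z) (fun z z' => by
          simp only [Adjunction.homEquiv_unit, Functor.map_add, Preadditive.comp_add])) m
        ((EtCore.pullConst f ℤ).hom ≫ d)
      refine e.trans (congrArg (fun z => m • z) ?_)
      show (EtCoh.pullPushAdj f).homEquiv _ _ ((EtCore.pullConst f ℤ).hom ≫ d) = c ≫ b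
      simp [d]
    refine isOfFinAddOrder_iff_nsmul_eq_zero.2 ⟨m, hm, ?_⟩
    have e := map_nsmul (AddMonoidHom.mk' (fun z : EtCoh.const X ℤ ⟶ T.X₃ => (Ext.mk₀ z).comp hT.extClass rfl)
      (fun a b => by rw [Ext.mk₀_add, Ext.add_comp])) m c
    refine e.symm.trans ?_
    show (Ext.mk₀ (m • c)).comp hT.extClass rfl = 0
    rw [← hc, ← Ext.mk₀_comp_mk₀, Ext.comp_assoc_of_second_deg_zero]
    exact (congrArg (fun z => (Ext.mk₀ w').comp z _) hT.comp_extClass).trans (Ext.comp_zero _ _ _ _ _)
  | succ q ih =>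
    intro F x
    let S := injS F
    haveI : Injective S.X₂ := inferInstanceAs (Injective (Injective.under F))
    haveI := GrothLib.EtDer.injective_push f S.X₂
    haveI : PreservesFiniteLimits (EtCoh.push f) :=
      ((EtCoh.pullPushAdj f).rightAdjoint_preservesLimits : PreservesLimitsOfSize.{0, 0} _).preservesFiniteLimits
    haveI : Mono ((EtCoh.push f).map S.f) := (EtCoh.push f).map_mono S.f
    let a := (EtCoh.push f).map S.f
    let T := ShortComplex.mk a (cokernel.π a) (cokernel.condition a)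
    have hT : T.ShortExact := { exact := T.exact_of_g_is_cokernel (cokernelIsCokernel _) }
    haveI : Injective T.X₂ := inferInstanceAs (Injective ((EtCoh.push f).obj S.X₂))
    have hex := (injS_shortExact F).exact.map_of_mono_of_preservesKernel (EtCoh.push f) inferInstance inferInstance
    obtain ⟨c, rfl⟩ := Ext.covariant_sequence_exact₁ _ hT x (Ext.eq_zero_of_injective _) rfl
    let b : T.X₃ ⟶ (EtCoh.push f).obj S.X₃ := cokernel.desc a ((EtCoh.push f).map S.g)
      (by rw [← Functor.map_comp, S.zero, Functor.map_zero])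
    haveI : Mono b := hex.mono_cokernelDesc
    let R := ShortComplex.mk b (cokernel.π b) (cokernel.condition b)
    have hR : R.ShortExact := { exact := R.exact_of_g_is_cokernel (cokernelIsCokernel _) }
    have hc : IsOfFinAddOrder c := by
      obtain ⟨m, hm, h0⟩ := isOfFinAddOrder_iff_nsmul_eq_zero.1
        (ih S.X₃ (Ext.comp c (Ext.mk₀ R.f) (add_zero (q + 1))))
      have hmc : Ext.comp (m • c) (Ext.mk₀ R.f) (add_zero (q + 1)) = 0 := by
        have e := map_nsmul (AddMonoidHom.mk' (fun z : EtCoh.H X T.X₃ (q + 1) => Ext.comp z (Ext.mk₀ R.f) (add_zero (q + 1)))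
          (fun a b => Ext.add_comp _ _ _ _)) m c
        exact e.trans h0
      obtain ⟨r, hr⟩ := Ext.covariant_sequence_exact₁ _ hR (m • c) hmc rfl
      have hC : EtCoh.IsTorsion R.X₃ := by
        refine isTorsion_of_iso ?_ (isTorsion_cokernel_push f (injS_shortExact F))
        exact (cokernelIsoOfEq (cokernel.π_desc _ _ _).symm) ≪≫ cokernelEpiComp (cokernel.π a) b
      obtain ⟨m', hm', h'⟩ := isOfFinAddOrder_iff_nsmul_eq_zero.1 (GrothLib.EtLimit.isOfFinAddOrder_H hC q r)
      refine isOfFinAddOrder_iff_nsmul_eq_zero.2 ⟨m' * m, Nat.mul_pos hm' hm, ?_⟩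
      rw [mul_comm, mul_nsmul, ← hr]
      have e := map_nsmul (AddMonoidHom.mk' (fun z : EtCoh.H X R.X₃ q => Ext.comp z hR.extClass rfl)
        (fun a b => Ext.add_comp _ _ _ _)) m' r
      refine e.symm.trans ?_
      exact (congrArg (fun z => Ext.comp z hR.extClass rfl) h').trans (Ext.zero_comp _ _ _ _ _)
    exact AddMonoidHom.isOfFinAddOrder (AddMonoidHom.mk' (fun z : EtCoh.H X T.X₃ (q + 1) => Ext.comp z hT.extClass rfl)
      (fun a b => Ext.add_comp _ _ _ _)) hc

end GrothLib.EtTrace21
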